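import Mathlib
import Cfsg.Agent.Palfy.ND3
import Cfsg.Agent.NFP.Ord

/-! (S4780, captain helper13). Abelian-by-cyclic groups acting with an antichain of
stabilisers. Notation: `A₁ = ⁅⊤, A⁆`, `S v = St φ v`. -/

set_option autoImplicit false

namespace Cfsg.Agent.NDA

open Subgroup Cfsg.Agent.Palfy
open scoped commutatorElement

variable {H V : Type*} [Group H] [CommGroup V]

/-- `A` is abelian and normal, `H / A` is cyclic and semiregular on `A₁ ≠ 1`. -/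
structure AC (A : Subgroup H) : Prop where
  nrm : A.Normal
  cyc : ∃ a : H, A ⊔ zpowers a = ⊤
  ab : ∀ a ∈ A, ∀ b ∈ A, a * b = b * a
  fpf : ∀ h, h ∉ A → ∀ e ∈ ⁅(⊤ : Subgroup H), A⁆, h * e = e * h → e = 1
  ne : ⁅(⊤ : Subgroup H), A⁆ ≠ ⊥

/-- the stabilisers of nonzero vectors are abelian, of index not divisible by `|H : A|`, and their
indices form an antichain -/
structure Act (φ : H →* MulAut V) (A : Subgroup H) : Prop extends AC A where
  sab : ∀ v, v ≠ 1 → ∀ a ∈ St φ v, ∀ b ∈ St φ v, a * b = b * a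
  nf : ∀ v, v ≠ 1 → ¬ A.index ∣ (St φ v).index
  nd : ∀ v w, v ≠ 1 → w ≠ 1 → (St φ v).index ∣ (St φ w).index → (St φ v).index = (St φ w).index

variable [Finite H] [Finite V] {φ : H →* MulAut V} {A : Subgroup H}

theorem AC.dec (h : AC A) {a : H} (ha : A ⊔ zpowers a = ⊤) (g : H) :
    ∃ α ∈ A, ∃ j : ℤ, g = α * a ^ j := by
  have := h.nrm
  obtain ⟨α, hα, _, ⟨j, rfl⟩, e⟩ := mem_sup_of_normal_left.1 (ha.ge (mem_top g))
  exact ⟨α, hα, j, e.symm⟩

theorem AC.isCyc (h : AC A) [A.Normal] : IsCyclic (H ⧸ A) := by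
  obtain ⟨a, ha⟩ := h.cyc
  refine ⟨(a : H ⧸ A), fun g => ?_⟩
  obtain ⟨g, rfl⟩ := QuotientGroup.mk_surjective g
  obtain ⟨α, hα, j, rfl⟩ := h.dec ha g
  exact ⟨j, by simp [(QuotientGroup.eq_one_iff α).2 hα]⟩

theorem AC.cm (h : AC A) (g g' : H) : ⁅g, g'⁆ ∈ A := by
  have := h.nrm
  have := h.isCyc
  exact mk_comm.2 (IsCyclic.commGroup.mul_comm _ _)

theorem AC.le (h : AC A) : ⁅(⊤ : Subgroup H), A⁆ ≤ A :=
  have := h.nrm
  commutator_le_right _ _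

theorem AC.cen_le (h : AC A) : center H ≤ A := fun z hz => by_contra fun r =>
  h.ne (eq_bot_iff.2 fun e he => h.fpf z r e he (mem_center_iff.1 hz e).symm)

theorem AC.gen (h : AC A) [A.Normal] (T : Subgroup H) : ∃ x ∈ T,
    orderOf (x : H ⧸ A) = A.relIndex T ∧ ∀ t ∈ T, ∃ j : ℤ, (x ^ j)⁻¹ * t ∈ A := by
  have := h.isCyc
  obtain ⟨g, hg⟩ := (Subgroup.isCyclic_iff_exists_zpowers_eq_top
    (T.map (QuotientGroup.mk' A))).1 inferInstance
  obtain ⟨x, hx, rfl⟩ := hg.le (mem_zpowers g)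
  refine ⟨x, hx, by rw [relIndex_mk, ← hg, Nat.card_zpowers]; rfl, fun t ht => ?_⟩
  obtain ⟨j, hj⟩ := hg.ge (mem_map_of_mem _ ht)
  exact ⟨j, QuotientGroup.eq.1 hj⟩

/-- An element of `A` commuting with some `h ∉ A` is central: for `g`, `⁅g,z⁆ ∈ A₁` commutes with `h`
(`h ⁅g,z⁆ h⁻¹ = ⁅h g h⁻¹, z⁆ = ⁅g,z⁆` as `h g h⁻¹ = g a'` with `a' ∈ A` since `H/A` is cyclic). -/
theorem AC.cen (h : AC A) {x z : H} (hx : x ∉ A) (hz : z ∈ A) (e : x * z = z * x) :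
    z ∈ center H := by
  refine mem_center_iff.2 fun g => commutatorElement_eq_one_iff_mul_comm.1
    (h.fpf x hx _ (commutator_mem_commutator (mem_top g) hz) (mul_inv_eq_iff_eq_mul.1 ?_))
  have k := h.ab _ (h.cm g⁻¹ x) z hz
  calc x * ⁅g, z⁆ * x⁻¹ = g * (⁅g⁻¹, x⁆ * (x * z * x⁻¹)) * ⁅g⁻¹, x⁆⁻¹ * g⁻¹ * (x * z * x⁻¹)⁻¹ := by
        simp only [commutatorElement_def]; group
    _ = ⁅g, z⁆ := by
        rw [e, mul_inv_cancel_right, k, commutatorElement_def g]; group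

/-- Elements outside `A` are conjugate under `A₁` into `U = C(a)`, for any `a` with `A ⊔ ⟨a⟩ = ⊤`;
and `C(x) = U` is abelian for `x ∈ U \ A`. Proof: `x = a^j α`; `δ = ⁅a^j, ·⁆` is onto on `A₁`
(`Palfy.surj_of_fpf`); write `α = e z` with `e ∈ A₁`, `z` central (`⁅a,α⁆ = ⁅a,e⁆`, `AC.cen`), and
`e = ⁅a^{-j}, e'⁆`-like, so that conjugating by `e'^{±1}` removes `e`. -/
theorem AC.conj (h : AC A) {a x : H} (ha : A ⊔ zpowers a = ⊤) (hx : x ∉ A) :
    ∃ e ∈ ⁅(⊤ : Subgroup H), A⁆, e * x * e⁻¹ * a = a * (e * x * e⁻¹) := by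
  have := h.nrm
  have a1 : a ∉ A := fun r => hx ((ha.ge.trans (sup_le le_rfl (zpowers_le.2 r))) (mem_top x))
  obtain ⟨α, hα, j, rfl⟩ := h.dec ha x
  obtain ⟨m, hm, e⟩ := surj_of_fpf (h.fpf a a1) (commutator_mem_commutator (mem_top a) hα)
  have c : Commute (m⁻¹ * α) a := by
    refine (mul_inv_eq_iff_eq_mul.1 ?_).symm
    calc a * (m⁻¹ * α) * a⁻¹ = m⁻¹ * ⁅a, m⁆⁻¹ * ⁅a, α⁆ * α := by
          simp only [commutatorElement_def]; group
      _ = _ := by rw [e, inv_mul_cancel_right]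
  have n : m⁻¹ * α * a ^ j ∉ A := fun r => hx (by
    simpa [mul_assoc] using mul_mem (h.le hm) r)
  obtain ⟨e', he', r⟩ := surj_of_fpf (h.fpf _ n) (inv_mem hm)
  refine ⟨e'⁻¹, inv_mem he', ?_⟩
  have k : e'⁻¹ * (α * a ^ j) * e'⁻¹⁻¹ = m⁻¹ * α * a ^ j := by
    calc _ = e'⁻¹ * (m⁻¹⁻¹ * (m⁻¹ * α * a ^ j)) * e' := by group
      _ = _ := by
        generalize m⁻¹ * α * a ^ j = y at r
        rw [← r, commutatorElement_def]; group
  rw [k]
  exact c.mul_left (Commute.zpow_self a j)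

theorem AC.cent (h : AC A) {a x y : H} (ha : A ⊔ zpowers a = ⊤) (hx : x ∉ A) (e : x * a = a * x) :
    y * x = x * y ↔ y * a = a * y := by
  have a1 : a ∉ A := fun r => hx ((ha.ge.trans (sup_le le_rfl (zpowers_le.2 r))) (mem_top x))
  obtain ⟨β, hβ, j, rfl⟩ := h.dec ha y
  have c : Commute (a ^ j) x := (Commute.zpow_right e j).symm
  have c' := Commute.zpow_self a j
  constructor <;> intro r
  · have := Commute.mul_left r c.inv_left
    rw [mul_inv_cancel_right] at this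
    exact Commute.mul_left (mem_center_iff.1 (h.cen hx hβ this.symm) a).symm c'
  · have := Commute.mul_left r c'.inv_left
    rw [mul_inv_cancel_right] at this
    exact Commute.mul_left (mem_center_iff.1 (h.cen a1 hβ this.symm) x).symm c

/-- The free module count. `K₀ ≤ A` central acts trivially, `A₁` fixes only `1`, and `⟨x⟩ ⊓ A ≤ K₀`.
Proof: `NFP.FH.card_eq` for the action of `H ⧸ K₀` (`QuotientGroup.lift`, `MulDistribMulAction.compHom`),
`F` the image of `A₁` (abelian), the cyclic group generated by the image of `x`, whose order is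
`A.relIndex (zpowers x)`. `fpf`: if `x^j ∉ K₀` then `x^j ∉ A`, and `⁅x^j,e⁆ ∈ K₀ ⊓ A₁ = 1`
(a central element of `A₁` is trivial by `fpf`, as `A ≠ ⊤` because `A₁ ≠ 1`). -/
theorem AC.card_fix (h : AC A) (φ : H →* MulAut V) {K : Subgroup H} (k1 : K ≤ center H)
    (k2 : K ≤ φ.ker) (f : ∀ v, ⁅(⊤ : Subgroup H), A⁆ ≤ St φ v → v = 1) {x : H}
    (hx : zpowers x ⊓ A ≤ K) :
    Nat.card V = Nat.card (Fx φ (zpowers x)) ^ A.relIndex (zpowers x) := by
  have := h.nrm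
  have : K.Normal := ⟨fun n hn g => by rwa [mem_center_iff.1 (k1 hn) g, mul_inv_cancel_right]⟩
  let _ : MulDistribMulAction (H ⧸ K) V :=
    MulDistribMulAction.compHom V (QuotientGroup.lift K φ k2)
  have F : NFP.FH (⁅(⊤ : Subgroup H), A⁆.map (QuotientGroup.mk' K))
      ((zpowers x).map (QuotientGroup.mk' K)) := by
    refine ⟨Normal.map inferInstance _ (QuotientGroup.mk'_surjective K), ?_, ?_⟩
    · have : IsMulCommutative (⁅(⊤ : Subgroup H), A⁆.map (QuotientGroup.mk' K)) := ⟨⟨by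
        rintro ⟨_, a, ha, rfl⟩ ⟨_, b, hb, rfl⟩
        exact Subtype.ext (congrArg (QuotientGroup.mk' K) (h.ab a (h.le ha) b (h.le hb)))⟩⟩
      open scoped IsMulCommutative in exact CommGroup.isNilpotent
    · rintro _ ⟨y, hy, rfl⟩ y1 _ ⟨e, he, rfl⟩ r
      have n : y ∉ A := fun k => y1 ((QuotientGroup.eq_one_iff y).2 (hx ⟨hy, k⟩))
      have k : ⁅y, e⁆ ∈ K := mk_comm.2 (mul_inv_eq_iff_eq_mul.1 r)
      rw [h.fpf y n e he (commutatorElement_eq_one_iff_mul_comm.1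
        (h.fpf y n _ (cm_mem y he) (mem_center_iff.1 (k1 k) y))), map_one]
  have e1 : NFP.fxH ((zpowers x).map (QuotientGroup.mk' K)) V = Fx φ (zpowers x) :=
    Subgroup.ext fun v => ⟨fun r y hy => r _ ⟨y, hy, rfl⟩, by
      rintro r _ ⟨y, hy, rfl⟩
      exact r hy⟩
  rw [F.card_eq inferInstance fun v _ r => f v fun e he => r _ ⟨e, he, rfl⟩, e1, ← relIndex_mk,
    ← inf_relIndex_right K, ← inf_relIndex_right A, le_antisymm
      (inf_le_inf_right _ (k1.trans h.cen_le)) (le_inf ((inf_comm _ _).le.trans hx) inf_le_right)]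

theorem AC.fix (h : AC A) (φ : H →* MulAut V) [Nontrivial V] {K : Subgroup H} (k1 : K ≤ center H)
    (k2 : K ≤ φ.ker) (f : ∀ v, ⁅(⊤ : Subgroup H), A⁆ ≤ St φ v → v = 1) {T : Subgroup H}
    (hT : T ⊓ A ≤ K) : ∃ v, v ≠ 1 ∧ T ≤ St φ v := by
  have := h.nrm
  obtain ⟨x, hx, -, g⟩ := h.gen T
  have c := h.card_fix φ k1 k2 f ((inf_le_inf_right A (zpowers_le.2 hx)).trans hT)
  obtain ⟨v, hv⟩ := ne_bot_iff_exists_ne_one.1 (show Fx φ (zpowers x) ≠ ⊥ from fun r => by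
    rw [r, card_bot, one_pow] at c
    exact Finite.one_lt_card.ne' c)
  refine ⟨v, fun r => hv (Subtype.ext r), fun t ht => ?_⟩
  obtain ⟨j, hj⟩ := g t ht
  have k : (x ^ j)⁻¹ * t ∈ St φ v := by
    rw [mem_St, MonoidHom.mem_ker.1 (k2 (hT ⟨T.mul_mem (T.inv_mem (zpow_mem hx j)) ht, hj⟩))]
    rfl
  exact (mul_mem_cancel_left (inv_mem (v.2 (zpow_mem_zpowers x j)))).1 k

namespace Act

variable (h : Act φ A)
include h

theorem out {v : V} (hv : v ≠ 1) : ∃ x ∈ St φ v, x ∉ A :=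
  SetLike.not_le_iff_exists.1 fun r => h.nf v hv (index_dvd_of_le r)

/-- `S v ⊓ A₁ = 1` and `S v ⊓ A` is central (`S v` is abelian and contains some `x ∉ A` by `nf`). -/
theorem sr {v : V} (hv : v ≠ 1) : St φ v ⊓ ⁅(⊤ : Subgroup H), A⁆ = ⊥ := by
  obtain ⟨x, hx, n⟩ := h.out hv
  exact eq_bot_iff.2 fun e he => h.fpf x n e he.2 (h.sab v hv x hx e he.1)

theorem cen {v : V} (hv : v ≠ 1) : St φ v ⊓ A ≤ center H := by
  obtain ⟨x, hx, n⟩ := h.out hv
  exact fun z hz => h.toAC.cen n hz.2 (h.sab v hv x hx z hz.1)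

theorem eq_of_le {v w : V} (hv : v ≠ 1) (hw : w ≠ 1) (l : St φ v ≤ St φ w) : St φ v = St φ w := by
  have := relIndex_mul_index l
  rw [← h.nd w v hw hv (index_dvd_of_le l), mul_eq_right₀ index_ne_zero_of_finite,
    relIndex_eq_one] at this
  exact le_antisymm l this

theorem fr {v : V} (l : ⁅(⊤ : Subgroup H), A⁆ ≤ St φ v) : v = 1 := by_contra fun hv =>
  h.ne (eq_bot_iff.2 ((le_inf l le_rfl).trans (h.sr hv).le))

theorem meet {Y W : Subgroup V} (iY : Inv φ Y) (iW : Inv φ W) {v : V} (hv : v ∈ Y) (v1 : v ≠ 1)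
    (hW : W ≠ ⊥) : Y ⊓ W ≠ ⊥ := fun e => by
  have := h.nrm
  have k : ∀ w ∈ W, w ≠ 1 → St φ w = St φ v := fun w hw w1 => by
    have n : v * w ≠ 1 := fun r => v1 (mem_bot.1 (e ▸ mem_inf.2
      ⟨hv, eq_inv_of_mul_eq_one_left r ▸ inv_mem hw⟩))
    have l : ∀ g ∈ St φ (v * w), φ g v = v ∧ φ g w = w := fun g hg => by
      rw [mem_St, map_mul] at hg
      have e1 : v⁻¹ * φ g v = w * (φ g w)⁻¹ := by
        rw [inv_mul_eq_iff_eq_mul, ← mul_assoc, ← hg, mul_inv_cancel_right]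
      have e2 : v⁻¹ * φ g v = 1 := mem_bot.1 (e ▸ mem_inf.2 ⟨mul_mem (inv_mem hv) (iY g v hv),
        e1 ▸ mul_mem hw (inv_mem (iW g w hw))⟩)
      exact ⟨(inv_mul_eq_one.1 e2).symm, (mul_inv_eq_one.1 (e1.symm.trans e2)).symm⟩
    exact (h.eq_of_le n w1 fun g hg => (l g hg).2).symm.trans (h.eq_of_le n v1 fun g hg => (l g hg).1)
  obtain ⟨w, hw⟩ := ne_bot_iff_exists_ne_one.1 hW
  have w1 : (w : V) ≠ 1 := fun r => hw (Subtype.ext r)
  obtain ⟨x, hx, n⟩ := h.out v1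
  refine h.ne (eq_bot_iff.2 fun a ha => h.fpf x n a ha (commutatorElement_eq_one_iff_mul_comm.1
    (mem_bot.1 (h.sr v1 ▸ mem_inf.2 ⟨?_, cm_mem x ha⟩))))
  have := (k _ (iW a⁻¹ w w.2) (ap_ne _ w1)).ge (inv_mem hx)
  rw [mem_St_ap, inv_inv, k w w.2 w1] at this
  simpa [commutatorElement_def, mul_assoc] using mul_mem hx this

/-- Proof. Let `z ∈ S v ⊓ A`; `z` is central, `Y = Fx φ (zpowers z) ∋ v` is invariant. Let `W ≠ ⊥` be
a minimal invariant subgroup of `V`.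
(a) If `Y ⊓ W = ⊥` for invariant `Y ∋ v ≠ 1`, `W ≠ ⊥`, contradiction: for `1 ≠ w ∈ W`,
`S (v w) = S v ⊓ S w` (directness), `v w ≠ 1`, so by `nd` `S v = S (v w) = S w`. Thus `S w = S v` for all
`1 ≠ w ∈ W`, so `S v` is normal (`mem_St_ap`), contains `x ∉ A`, hence `⁅x,e⁆ ∈ S v ⊓ A₁ = 1` for all
`e ∈ A₁`, so `A₁ = 1`. So every `z ∈ S v ⊓ A` fixes `W` pointwise (minimality): `S v ⊓ A ≤ K`,
`K := A ⊓ ker (res φ W)`, which is central and equals `S w ⊓ A` for `1 ≠ w ∈ W`.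
(b) (`fix` for `W`) if `T ⊓ A ≤ K` then `T ≤ S w` for some `1 ≠ w ∈ W`: `T A / A` is generated by some
`x ∈ T`, `T ≤ K ⊔ ⟨x⟩`, `AC.card_fix` for `res φ W`. Applied to `T = S v`: `S v ≤ S w`, so `nd` gives
`S v = S w ≥ K`. Hence `K ≤ S v` for all `v`, `K ≤ ker φ`. -/
theorem ker {v : V} (hv : v ≠ 1) : St φ v ⊓ A ≤ φ.ker := by
  obtain ⟨W, ⟨iW, hW⟩, mn⟩ := exists_minimal_of_wellFoundedLT (fun W : Subgroup V => Inv φ W ∧ W ≠ ⊥)
    ⟨⊤, fun _ _ _ => mem_top _, fun r => hv (mem_bot.1 (r ▸ mem_top v))⟩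
  have k : ∀ u, u ≠ 1 → St φ u ⊓ A ≤ A ⊓ (res φ W iW).ker := fun u hu z hz => by
    have : (zpowers z).Normal := ⟨fun n hn g => by
      rwa [mem_center_iff.1 (zpowers_le.2 (h.cen hu hz) hn) g, mul_inv_cancel_right]⟩
    have iY := inv_Fx φ (zpowers z)
    have := mn ⟨fun g w hw => mem_inf.2 ⟨iY g w hw.1, iW g w hw.2⟩,
      h.meet iY iW (zpowers_le.2 hz.1) hu hW⟩ inf_le_right
    exact ⟨hz.2, MulEquiv.ext fun w => Subtype.ext ((this w.2).1 (mem_zpowers z))⟩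
  have l : ∀ w : W, A ⊓ (res φ W iW).ker ≤ St φ w ⊓ A := fun w z hz =>
    ⟨congrArg Subtype.val (DFunLike.congr_fun (MonoidHom.mem_ker.1 hz.2) w), hz.1⟩
  have := (nontrivial_iff_ne_bot W).2 hW
  obtain ⟨w, hw⟩ := exists_ne (1 : W)
  refine (k v hv).trans fun z hz => MulEquiv.ext fun u => ?_
  by_cases hu : u = 1
  · rw [hu, map_one, map_one]
  obtain ⟨w', w1, r⟩ := h.toAC.fix (res φ W iW) ((l w).trans (h.cen fun r => hw (Subtype.ext r)))
    inf_le_right (fun w r => Subtype.ext (h.fr (St_res φ W iW w ▸ r))) (k u hu)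
  rw [St_res] at r
  exact (h.eq_of_le hu (fun r => w1 (Subtype.ext r)) r).ge (l w' hz).1

/-- `T A / A` is generated by some `x ∈ T`; `AC.card_fix` with `K = A ⊓ ker φ` (central by `cen`). -/
theorem fix [Nontrivial V] {T : Subgroup H} (hT : T ⊓ A ≤ φ.ker) : ∃ v, v ≠ 1 ∧ T ≤ St φ v := by
  obtain ⟨w, hw⟩ := exists_ne (1 : V)
  refine h.toAC.fix φ (K := A ⊓ φ.ker) (le_trans (fun z hz => mem_inf.2 ⟨?_, hz.1⟩) (h.cen hw)) inf_le_right
    (fun _ => h.fr) (le_inf inf_le_right hT)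
  exact DFunLike.congr_fun (MonoidHom.mem_ker.1 hz.2) w

theorem rel {v : V} (hv : v ≠ 1) : A.relIndex (St φ v) * (St φ v).index = (A ⊓ φ.ker).index := by
  have l : A ⊓ φ.ker ≤ St φ v := fun z hz => DFunLike.congr_fun (MonoidHom.mem_ker.1 hz.2) v
  rw [← relIndex_mul_index l, ← inf_relIndex_right A, le_antisymm
    (le_inf inf_le_left ((inf_comm _ _).le.trans (h.ker hv))) (le_inf inf_le_left l)]

theorem rep [A.Normal] {a : H} (ha : A ⊔ zpowers a = ⊤) {v : V} (hv : v ≠ 1) :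
    ∃ x, x ∉ A ∧ x * a = a * x ∧ orderOf (x : H ⧸ A) = A.relIndex (St φ v) ∧
      orderOf (x : H ⧸ (A ⊓ φ.ker)) = A.relIndex (St φ v) := by
  obtain ⟨x, hx, o, g⟩ := h.toAC.gen (St φ v)
  have n : x ∉ A := fun r => by
    obtain ⟨y, hy, n⟩ := h.out hv
    obtain ⟨j, hj⟩ := g y hy
    exact n ((mul_mem_cancel_left (inv_mem (zpow_mem r j))).1 hj)
  obtain ⟨e, he, c⟩ := h.toAC.conj ha n
  have e1 : ((e * x * e⁻¹ : H) : H ⧸ A) = x := by
    simp [(QuotientGroup.eq_one_iff e).2 (h.toAC.le he)]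
  have m : e * x * e⁻¹ ∈ St φ (φ e v) := mem_St_ap.2 (by simpa [mul_assoc] using hx)
  refine ⟨_, fun r => n ?_, c, e1 ▸ o, ?_⟩
  · rwa [← QuotientGroup.eq_one_iff, e1, QuotientGroup.eq_one_iff] at r
  · rw [← o, ← e1, orderOf_eq_orderOf_iff]
    intro k
    rw [← QuotientGroup.mk_pow, ← QuotientGroup.mk_pow, QuotientGroup.eq_one_iff,
      QuotientGroup.eq_one_iff]
    exact ⟨fun r => r.1, fun r => ⟨r, h.ker (ap_ne e hv) ⟨pow_mem m k, r⟩⟩⟩

/-- Proof. `K = A ⊓ ker φ = S v ⊓ A`, `|S v| = |K| s(v)` with `s(v) = A.relIndex (S v)`. Fix `a`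
generating `H` mod `A`. Take `x ∈ S v` generating `S v` mod `A`; after conjugation (`AC.conj`, replace `v`
by `φ e v`) `x` commutes with `a`; same for `y ∈ S w`; then `x y = y x` (`AC.cent`). The orders of `x`
in `H ⧸ K` and in `H ⧸ A` are both `m = s(v)`, those of `y` both `n = s(w)`. By
`Commute.orderOf_mul_pow_eq_lcm` the element `z = x^i y^j` (`i = m / factorizationLCMLeft m n`, ...) has
order `lcm m n` in both quotients, so `⟨z⟩ ⊓ A ≤ K`, and `fix` gives `u ≠ 1` with `z ∈ S u`, so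
`lcm m n ∣ s(u)`, `|S v|, |S w| ∣ |S u|`; `nd` gives equal indices. -/
theorem idx {v w : V} (hv : v ≠ 1) (hw : w ≠ 1) : (St φ v).index = (St φ w).index := by
  have := h.nrm
  have : Nontrivial V := ⟨v, 1, hv⟩
  obtain ⟨a, ha⟩ := h.cyc
  obtain ⟨x, x1, x2, x3, x4⟩ := h.rep ha hv
  obtain ⟨y, -, y2, y3, y4⟩ := h.rep ha hw
  have c : Commute x y := ((h.toAC.cent ha x1 x2).2 y2).symm
  have o1 := (c.map (QuotientGroup.mk' A)).orderOf_mul_pow_eq_lcm (orderOf_pos _).ne'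
    (orderOf_pos _).ne'
  have o2 := (c.map (QuotientGroup.mk' (A ⊓ φ.ker))).orderOf_mul_pow_eq_lcm (orderOf_pos _).ne'
    (orderOf_pos _).ne'
  simp only [QuotientGroup.mk'_apply, x3, x4, y3, y4, ← QuotientGroup.mk_pow,
    ← QuotientGroup.mk_mul] at o1 o2
  generalize x ^ _ * y ^ _ = z at o1 o2
  obtain ⟨u, hu, l⟩ := h.fix (T := zpowers z) (by
    rintro _ ⟨⟨k, rfl⟩, r⟩
    have r1 : (z : H ⧸ A) ^ k = 1 := (QuotientGroup.eq_one_iff (z ^ k)).2 r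
    rw [← orderOf_dvd_iff_zpow_eq_one, o1, ← o2, orderOf_dvd_iff_zpow_eq_one] at r1
    exact ((QuotientGroup.eq_one_iff (z ^ k)).1 r1).2)
  have d : (A.relIndex (St φ v)).lcm (A.relIndex (St φ w)) ∣ A.relIndex (St φ u) := by
    rw [← o1, relIndex_mk]
    exact orderOf_dvd_natCard _ (mem_map_of_mem _ (l (mem_zpowers z)))
  have k : ∀ {t : V}, t ≠ 1 → A.relIndex (St φ t) ∣ A.relIndex (St φ u) →
      (St φ u).index = (St φ t).index := fun ht ⟨j, hj⟩ => h.nd _ _ hu ht ⟨j, by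
    have e := (h.rel ht).trans (h.rel hu).symm
    rw [hj, mul_assoc, mul_comm j] at e
    exact Nat.eq_of_mul_eq_mul_left (Nat.pos_of_ne_zero index_ne_zero_of_finite) e⟩
  exact (k hv ((Nat.dvd_lcm_left _ _).trans d)).symm.trans (k hw ((Nat.dvd_lcm_right _ _).trans d))

end Act

end Cfsg.Agent.NDA
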