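import Mathlib
import Cfsg.Agent.NDA.ActA

/-! S4780: the counting argument. -/

set_option autoImplicit false

namespace Cfsg.Agent.NDA

open Subgroup Cfsg.Agent.Palfy
open scoped commutatorElement

/-- the arithmetic: `x^(s-1) (x-1) < x^s - 1 ≤ α g (x-1)`, `α (y-1) < y^s`, `2 y ≤ x`, `2 g ≤ s`,
`y ≤ 2 (y-1)` give `2^(s-1) y^(s-1) < α g ≤ ...`, i.e. `2^(s-1) < 2 g ≤ s`, false. -/
theorem arith {x y s g α : ℕ} (hy : 2 ≤ y) (hx : 2 * y ≤ x) (hs : 2 ≤ s) (hg : 2 * g ≤ s)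
    (h1 : x ^ s - 1 ≤ α * g * (x - 1)) (h2 : α * (y - 1) ≤ y ^ s - 1) : False := by
  obtain ⟨s, rfl⟩ : ∃ t, s = t + 1 := ⟨s - 1, by omega⟩
  obtain ⟨x, rfl⟩ : ∃ t, x = t + 1 := ⟨x - 1, by omega⟩
  obtain ⟨y, rfl⟩ : ∃ t, y = t + 1 := ⟨y - 1, by omega⟩
  have a1 := Nat.pow_le_pow_left hx s
  have a2 : 0 < (y + 1) ^ s := by positivity
  have a3 : s < 2 ^ s := Nat.lt_two_pow_self
  rw [pow_succ, Nat.add_sub_cancel] at h1 h2
  rw [mul_pow] at a1
  have b1 : (x + 1) ^ s ≤ α * g := Nat.le_of_mul_le_mul_right (c := x) (by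
    have : 0 < (x + 1) ^ s := by positivity
    rw [mul_add] at h1
    omega) (by omega)
  have b2 : α < 2 * (y + 1) ^ s := Nat.lt_of_mul_lt_mul_right (a := y) (by
    have : (y + 1) ^ s * 1 ≤ (y + 1) ^ s * y := Nat.mul_le_mul_left _ (by omega)
    rw [mul_add] at h2
    rw [mul_assoc]
    omega)
  have g0 : 0 < g := Nat.pos_of_mul_pos_left (((by positivity : 0 < (x + 1) ^ s)).trans_le b1)
  nlinarith [Nat.mul_lt_mul_of_pos_right b2 g0, Nat.mul_le_mul_right ((y + 1) ^ s) hg,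
    Nat.mul_le_mul_right ((y + 1) ^ s) a3]

theorem cyc_ncard {G : Type*} [Group G] [Finite G] [IsCyclic G] {n : ℕ} (hn : 0 < n) :
    {g : G | g ^ n = 1}.ncard ≤ n := by
  classical
  have := Fintype.ofFinite G
  simpa [Set.ncard_eq_toFinset_card'] using IsCyclic.card_pow_eq_one_le (α := G) hn

theorem cyc_mem {G : Type*} [Group G] [Finite G] [IsCyclic G] {M : Subgroup G} {g : G}
    (h : g ^ Nat.card M = 1) : g ∈ M :=
  (Set.eq_of_subset_of_ncard_le (s := M) (t := {g | g ^ Nat.card M = 1})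
    (fun g hg => congrArg Subtype.val (pow_card_eq_one' (x := (⟨g, hg⟩ : M))))
    (cyc_ncard Nat.card_pos)).ge h

theorem ncard_diff {G : Type*} [Group G] [Finite G] (M : Subgroup G) :
    ((M : Set G) \ {1}).ncard = Nat.card M - 1 := Set.ncard_sdiff_singleton_of_mem M.one_mem

variable {H V U : Type*} [Group H] [CommGroup V] [CommGroup U] [Finite H] [Finite V] [Finite U]
  {φ : H →* MulAut V} {A : Subgroup H}

/-- Proof. `K = A ⊓ ker φ` (central), `A₁ = ⁅⊤,A⁆`, `α = |A₁|`, `Z = A ⊓ center H`, `a` a generator mod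
`A`. All `S v = St φ v` (`v ≠ 1`) have `S v ⊓ A = K` (`ker`) and the same order (`idx`), so the same
`s = A.relIndex (S v) ≥ 2` and the same `S v ⊔ A` (unique subgroup of order `s` of the cyclic `H/A`).
Fix `v₀` and `x₀ ∈ S v₀` generating `S v₀` mod `A`, commuting with `a` (`AC.conj`). `Z/K` acts
semiregularly on `V \ 1`, so it is cyclic (`Palfy.isCyclic_of_fix` for `Z.map φ`). Let
`Γ = {ζ ∈ Z.map φ | ζ^s = 1}`, `g = |Γ| = gcd(s, |Z/K|)` divides `s` (or: `g ≤ s` via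
`IsCyclic.card_pow_eq_one_le` applied to the exponent `gcd`), and `s ∤ |Z : K|`: otherwise
`|H:A| ∣ |H : S v₀|`, because `|H:S v₀| s |K| = |H:A| |A|` and `|Z| ∣ |A|`; contradiction to `nf`. So
`2 g ≤ s` (put `d = gcd(s,|Z:K|)`, a proper divisor of `s`; `ζ^s = 1 ↔ ζ^d = 1`; `g ≤ d`).
Upper bound: every `v ≠ 1` is `φ e⁻¹ v'` with `e ∈ A₁` and `v'` fixed by `x₀ z`, `z ∈ Z`
(take `x ∈ S v ∩ x₀ A`, conjugate it into `C(a)`; then `x₀⁻¹ x' ∈ A` commutes with `a`: central),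
and `(x₀ z)^s, x₀^s ∈ K` give `φ z ∈ Γ`; the fixed group of `x₀ z` depends only on `φ z` and has order
`x` with `x^s = |V|` (`AC.card_fix`; `⟨x₀ z⟩ ⊓ A ≤ K`). So `|V| - 1 ≤ α g (x - 1)`.
Lower bound: `AC.card_fix` for `ψ`, `x₀`: `|U| = y^s`, `y = |Fx ψ ⟨x₀⟩| ≥ 2`; the map
`A₁ × (Fix \ 1) → U \ 1`, `(e,u) ↦ ψ e u` is injective (if `ψ e u = u'` with `u, u'` fixed by `x₀`
then `⁅x₀, e⁆`-type element of `A₁` fixes `u'`, so is `1` by `sr`, so `e = 1` by `fpf`). So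
`α (y-1) ≤ y^s - 1`. `y^s ∣ x^s` gives `y ∣ x` (`Nat.pow_dvd_pow_iff`); if `|U| ≠ |V|` then `2 y ≤ x`
and `arith` applies. -/
theorem Act.count (h : Act φ A) [Nontrivial V] [Nontrivial U] (ψ : H →* MulAut U)
    (k : φ.ker ⊓ A ≤ ψ.ker) (sr : ∀ u, u ≠ 1 → St ψ u ⊓ ⁅(⊤ : Subgroup H), A⁆ = ⊥)
    (d : Nat.card U ∣ Nat.card V) : Nat.card U = Nat.card V := by
  have := h.nrm
  obtain ⟨a, ha⟩ := h.cyc
  let π := QuotientGroup.mk' A
  have hπ : ∀ {x}, π x = 1 ↔ x ∈ A := QuotientGroup.eq_one_iff _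
  have : IsCyclic (H ⧸ A) := isCyclic_iff_exists_zpowers_eq_top.2 ⟨π a, by
    have := congrArg (map π) ha
    rwa [Subgroup.map_sup, QuotientGroup.map_mk'_self, bot_sup_eq, MonoidHom.map_zpowers,
      map_top_of_surjective _ (QuotientGroup.mk'_surjective A)] at this⟩
  have rk : ∀ T : Subgroup H, A.relIndex T = Nat.card (T.map π) := fun T => by
    rw [← relIndex_ker, QuotientGroup.ker_mk']
  have le1 : ⁅(⊤ : Subgroup H), A⁆ ≤ A := commutator_le_right _ _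
  have sK : ∀ {v}, v ≠ 1 → A ⊓ St φ v = φ.ker ⊓ A := fun {v} hv =>
    le_antisymm (fun x hx => ⟨h.ker hv ⟨hx.2, hx.1⟩, hx.1⟩) fun x hx =>
      ⟨hx.2, mem_St.2 (by rw [hx.1]; rfl)⟩
  have iK : ∀ {v}, v ≠ 1 → Nat.card ((St φ v).map π) * (St φ v).index = (φ.ker ⊓ A).index :=
    fun {v} hv => by rw [← rk, ← sK hv, ← inf_relIndex_right, relIndex_mul_index inf_le_right]
  obtain ⟨v1, hv1⟩ := exists_ne (1 : V)
  have kc : φ.ker ⊓ A ≤ center H := (sK hv1).ge.trans (inf_comm A _ ▸ h.cen hv1)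
  obtain ⟨m, hm⟩ := (Subgroup.isCyclic_iff_exists_zpowers_eq_top _).1
    (inferInstance : IsCyclic ((St φ v1).map π))
  have m1 : m ≠ 1 := fun e => h.nf v1 hv1 (index_dvd_of_le fun x hx =>
    hπ.1 (by simpa [e] using hm.ge ⟨x, hx, rfl⟩))
  have s2 : 2 ≤ orderOf m := by
    have := orderOf_pos m
    have := mt orderOf_eq_one_iff.1 m1
    omega
  have hs : Nat.card ((St φ v1).map π) = orderOf m := by rw [← hm, Nat.card_zpowers]
  have nA : ∀ {x}, π x = m → x ∉ A := fun e c => m1 (e.symm.trans (hπ.2 c))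
  have aA : a ∉ A := fun c => m1 (by
    obtain ⟨x, rfl⟩ := QuotientGroup.mk'_surjective A m
    exact hπ.2 ((sup_eq_left.2 (zpowers_le.2 c)).symm.trans ha ▸ mem_top x))
  have cj : ∀ {x}, π x = m → ∀ e, π (e * x * e⁻¹) = m := fun {x} hx e => by
    rw [map_mul, map_mul, hx, mul_comm' (π e), map_inv, mul_inv_cancel_right]
  have key : ∀ v, v ≠ 1 → ∃ e ∈ ⁅(⊤ : Subgroup H), A⁆, ∃ x ∈ St φ (φ e v), π x = m ∧ x * a = a * x :=
    fun v hv => by
      obtain ⟨x, hx, e⟩ : m ∈ (St φ v).map π := cyc_mem (by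
        rw [Nat.eq_of_mul_eq_mul_right (Nat.pos_of_ne_zero index_ne_zero_of_finite)
          ((iK hv).trans ((iK hv1).symm.trans (by rw [h.idx hv1 hv]))), hs, pow_orderOf_eq_one])
      obtain ⟨c, hc, k⟩ := h.conj ha (nA e)
      exact ⟨c, hc, _, mem_St_ap.2 (by simpa [mul_assoc] using hx), cj e c, k⟩
  obtain ⟨e0, -, x0, h0, m0, a0⟩ := key v1 hv1
  have v0 := ap_ne (φ := φ) e0 hv1
  have rz : ∀ {x}, π x = m → A.relIndex (zpowers x) = orderOf m := fun e => by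
    rw [rk, MonoidHom.map_zpowers, e, Nat.card_zpowers]
  have zK : ∀ {v x}, v ≠ 1 → x ∈ St φ v → zpowers x ⊓ A ≤ φ.ker ⊓ A := fun hv hx y hy =>
    (sK hv).le ⟨hy.2, zpowers_le.2 hx hy.1⟩
  have cV : ∀ {v x}, v ≠ 1 → x ∈ St φ v → π x = m →
      Nat.card V = Nat.card (Fx φ (zpowers x)) ^ orderOf m := fun hv hx e =>
    rz e ▸ h.card_fix φ kc inf_le_left (fun w hw => by_contra fun c =>
      h.ne ((inf_eq_right.2 hw).symm.trans (h.sr c))) (zK hv hx)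
  have cU : Nat.card U = Nat.card (Fx ψ (zpowers x0)) ^ orderOf m :=
    rz m0 ▸ h.card_fix ψ kc k (fun w hw => by_contra fun c =>
      h.ne ((inf_eq_right.2 hw).symm.trans (sr w c))) (zK v0 h0)
  have c0 := cV v0 h0 m0
  have hX : ∀ x, π x = m → ((Fx φ (zpowers x) : Set V) \ {1}).ncard ≤
      Nat.card (Fx φ (zpowers x0)) - 1 := fun x e => by
    rcases ((Fx φ (zpowers x) : Set V) \ {1}).eq_empty_or_nonempty with c | ⟨v, c1, c2⟩
    · simp [c]
    · rw [ncard_diff, Nat.pow_left_injective (by omega : orderOf m ≠ 0)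
        ((cV c2 (c1 (mem_zpowers x)) e).symm.trans c0)]
  have cyc : IsCyclic ((A ⊓ center H).map φ) := isCyclic_of_fix (by
    rintro _ ⟨x, hx, rfl⟩ _ ⟨y, hy, rfl⟩
    rw [← map_mul, ← map_mul, h.ab x hx.1 y hy.1]) (by
    rintro _ ⟨x, hx, rfl⟩ v e
    exact or_iff_not_imp_right.2 fun c => h.ker c ⟨e, hx.1⟩)
  set n := Nat.card ((A ⊓ center H).map φ) with hn
  have nd : ¬ orderOf m ∣ n := by
    rintro ⟨c, hc⟩
    refine h.nf v1 hv1 ⟨c * (A ⊓ center H).relIndex A, Nat.eq_of_mul_eq_mul_left (orderOf_pos m) ?_⟩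
    have := iK hv1
    rw [hs, ← relIndex_mul_index (le_inf inf_le_right kc), ← relIndex_mul_index (K := A) inf_le_left,
      ← inf_relIndex_right, inf_assoc, ← inf_assoc A, inf_idem, inf_relIndex_right, relIndex_ker, ← hn,
      hc] at this
    rw [this]
    ring
  have up : Nat.card V - 1 ≤ Nat.card ↥⁅(⊤ : Subgroup H), A⁆ * (orderOf m).gcd n *
      (Nat.card (Fx φ (zpowers x0)) - 1) := by
    let Γ := {ζ : (A ⊓ center H).map φ | ζ ^ (orderOf m).gcd n = 1}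
    have := Fintype.ofFinite (↥⁅(⊤ : Subgroup H), A⁆ × Γ)
    choose z hz using fun ζ : Γ => ζ.1.2
    have := Set.ncard_iUnion_le_of_fintype fun p : ↥⁅(⊤ : Subgroup H), A⁆ × Γ =>
      (Fx φ (zpowers ((p.1 : H)⁻¹ * (x0 * z p.2) * (p.1 : H)⁻¹⁻¹)) : Set V) \ {1}
    rw [← card_top, ← ncard_diff]
    refine (Set.ncard_le_ncard (fun v hv => ?_)).trans (this.trans ((Finset.sum_le_card_nsmul _ _ _
      fun p _ => hX _ (cj (by rw [map_mul, m0, hπ.2 (hz _).1.1, mul_one]) _)).trans ?_))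
    · obtain ⟨e, he, x, hx, mx, ax⟩ := key v hv.2
      have zA : x0⁻¹ * x ∈ A := hπ.1 (by rw [map_mul, map_inv, m0, mx, inv_mul_cancel])
      have zc := h.toAC.cen aA zA ((Commute.inv_left a0).mul_left ax).symm
      have pk : ∀ {v x}, v ≠ 1 → x ∈ St φ v → π x = m → φ x ^ orderOf m = 1 := fun hv hx e =>
        (map_pow φ _ _).symm.trans (h.ker hv ⟨pow_mem hx _, hπ.1 (by
          rw [map_pow, e, pow_orderOf_eq_one])⟩)
      have p1 := pk (ap_ne e hv.2) hx mx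
      have cm : Commute (φ x0) (φ (x0⁻¹ * x)) := (show Commute x0 _ from mem_center_iff.1 zc x0).map φ
      rw [← mul_inv_cancel_left x0 x, map_mul, cm.mul_pow, pk v0 h0 m0, one_mul] at p1
      let ζ : Γ := ⟨⟨_, _, ⟨zA, zc⟩, rfl⟩, pow_gcd_eq_one.2 ⟨Subtype.ext p1, pow_card_eq_one'⟩⟩
      refine Set.mem_iUnion.2 ⟨(⟨e, he⟩, ζ), zpowers_le.2 ?_, hv.2⟩
      rw [inv_inv, ← mem_St_ap, mem_St, map_mul, (hz ζ).2, ← map_mul, mul_inv_cancel_left]
      exact hx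
    · rw [smul_eq_mul, Finset.card_univ, ← Nat.card_eq_fintype_card, Nat.card_prod]
      exact Nat.mul_le_mul_right _ (Nat.mul_le_mul_left _ (cyc_ncard (Nat.gcd_pos_of_pos_left _
        (orderOf_pos m))))
  have lo : Nat.card ↥⁅(⊤ : Subgroup H), A⁆ * (Nat.card (Fx ψ (zpowers x0)) - 1) ≤ Nat.card U - 1 := by
    rw [← card_top (G := U), ← ncard_diff, ← ncard_diff, ← SetLike.coe_sort_coe, Nat.card_coe_set_eq,
      ← Set.ncard_prod]
    refine Set.ncard_le_ncard_of_injOn (fun p => ψ p.1 p.2) (fun p hp => ⟨trivial, ap_ne _ hp.2.2⟩) ?_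
    rintro ⟨e, u⟩ ⟨he, hu, u1⟩ ⟨e', u'⟩ ⟨he', hu', -⟩ (c : ψ e u = ψ e' u')
    have hc := mul_mem (inv_mem he') he
    have c' : ψ (e'⁻¹ * e) u = u' := by rw [ap_mul, c, ap_inv]
    have := (sr u u1).le (mem_inf.2 ⟨mul_mem (mem_St_ap.1 (c' ▸ hu' (mem_zpowers x0)))
      (inv_mem (hu (mem_zpowers x0))), by
        simpa only [mul_assoc] using mul_mem (inv_mem hc) (Normal.conj_mem inferInstance _ hc x0)⟩)
    have := h.fpf x0 (nA m0) _ hc (by
      rw [mem_bot, mul_inv_eq_one, mul_assoc, inv_mul_eq_iff_eq_mul] at this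
      exact this)
    rw [this, map_one] at c'
    exact Prod.ext (inv_mul_eq_one.1 this).symm c'
  have y2 : 2 ≤ Nat.card (Fx ψ (zpowers x0)) := by
    by_contra! c
    have := Finite.one_lt_card (α := U)
    rw [cU, show Nat.card (Fx ψ (zpowers x0)) = 1 by
      have := Nat.card_pos (α := Fx ψ (zpowers x0))
      omega, one_pow] at this
    omega
  rw [cU, c0] at d ⊢
  rw [cU] at lo
  rw [c0] at up
  obtain ⟨c, hc⟩ := (Nat.pow_dvd_pow_iff (by omega)).1 d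
  obtain ⟨j, hj⟩ := Nat.gcd_dvd_left (orderOf m) n
  by_contra ne
  refine arith y2 ?_ s2 ?_ up lo
  · have := Nat.card_pos (α := Fx φ (zpowers x0))
    have c1 : c ≠ 1 := fun e => ne (by rw [hc, e, mul_one])
    have c0 : c ≠ 0 := fun e => by simp [hc, e] at this
    rw [hc, mul_comm]
    exact Nat.mul_le_mul_left _ (by omega)
  · have j1 : j ≠ 1 := fun e => nd (by rw [hj, e, mul_one]; exact Nat.gcd_dvd_right _ _)
    have j0 : j ≠ 0 := fun e => by rw [e] at hj; omega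
    rw [mul_comm]
    exact (Nat.mul_le_mul_left _ (by omega)).trans hj.ge

end Cfsg.Agent.NDA
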