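import Cfsg.Agent.NDA.B2a
import Cfsg.Agent.NDA.Rad
import Cfsg.Agent.NDA.ActC
import Cfsg.Agent.Solv.FpfThompson

/-! (S4780, captain helper13). The coprime case: `M = N'` is abelian, one degree. -/

set_option autoImplicit false
set_option linter.unusedSectionVars false

namespace Cfsg.Agent.NDA.B2

open Subgroup Cfsg.Agent.Char Cfsg.Agent.Palfy
open scoped commutatorElement

variable {G : Type*} [Group G] [Finite G] [Group.IsSolvable G] {N : Subgroup G} [N.Normal] {d : ℕ}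
  (h : B2 N)
include h

/-- Proof. A prime `p ∣ |N : D|` (`nle`), `exL`; `N' ≤ L` because `N' L / L` is a `p`-group of order dividing
`|N'|`, prime to `p` by `co`; `Ny.compl`. -/
theorem compl : ∃ J : Subgroup G, (⁅N, N⁆).IsComplement' J := by
  obtain ⟨p, hp, hd⟩ := Nat.exists_prime_and_dvd (mt relIndex_eq_one.1 h.toNy.nle)
  obtain ⟨x, k, L, _, hx, nx, e, le, c, pL⟩ := h.toNy.exL hp hd
  have hL : ⁅N, N⁆ ≤ L := fun m hm => by
    obtain ⟨j, hj⟩ := pL ⟨_, mem_map_of_mem _ (commutator_le_self N hm)⟩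
    refine mem_of_pows ((h.co.coprime_dvd_left hd).pow_left j)
      ((QuotientGroup.eq_one_iff _).1 (congrArg Subtype.val hj)) ?_
    rw [show m ^ Nat.card (⁅N, N⁆ : Subgroup G) = 1 from
      congrArg Subtype.val (pow_card_eq_one' (x := (⟨m, hm⟩ : (⁅N, N⁆ : Subgroup G))))]
    exact one_mem _
  have := h.toNy.compl hp hx nx e le c pL
  rwa [inf_eq_right.2 hL] at this

/-- Proof. `H = G ⧸ M`, `A = N.map π`, `⁅⊤,A⁆ = E.map π`; `AC` from `cyc`, `fpf`, `nc`; `St_qdual`,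
`index_map_eq`, `Ny.stab` with `compl` give `sab`, `nf`, `nd`. -/
theorem act : Act (V := (⁅N, N⁆ : Subgroup G) →* ℂˣ) (qdual ⁅N, N⁆ ⁅N, N⁆ (self_le_St _))
    (N.map (QuotientGroup.mk' ⁅N, N⁆)) := by
  obtain ⟨J, hJ⟩ := h.compl
  have hs := QuotientGroup.mk'_surjective ⁅N, N⁆
  have hE : ⁅(⊤ : Subgroup (G ⧸ ⁅N, N⁆)), N.map (QuotientGroup.mk' ⁅N, N⁆)⁆ =
      (⁅(⊤ : Subgroup G), N⁆).map (QuotientGroup.mk' ⁅N, N⁆) := by
    rw [map_commutator, map_top_of_surjective _ hs]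
  have hi : ∀ v : (⁅N, N⁆ : Subgroup G) →* ℂˣ,
      (St (qdual ⁅N, N⁆ ⁅N, N⁆ (self_le_St _)) v).index = (St (dual ⁅N, N⁆) v).index := fun v => by
      rw [St_qdual, index_map_eq _ hs]
      rw [QuotientGroup.ker_mk']
      exact self_le_St _ v
  refine ⟨⟨Normal.map inferInstance _ hs, ?_, ?_, ?_, ?_⟩, fun v hv => ?_, fun v hv => ?_,
    fun v w hv hw => ?_⟩
  · obtain ⟨a, ha⟩ := h.cyc
    exact ⟨QuotientGroup.mk' _ a, by
      rw [← MonoidHom.map_zpowers, ← Subgroup.map_sup, ha, map_top_of_surjective _ hs]⟩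
  · rintro _ ⟨a, ha, rfl⟩ _ ⟨b, hb, rfl⟩
    exact mk_comm.1 (commutator_mem_commutator ha hb)
  · rw [hE]
    rintro g hg _ ⟨e, he, rfl⟩ c
    obtain ⟨g, rfl⟩ := hs g
    exact (QuotientGroup.eq_one_iff _).2
      (h.fpf g (fun k => hg (mem_map_of_mem _ k)) e he (mk_comm.2 c))
  · rw [hE, Ne, Subgroup.map_eq_bot_iff, QuotientGroup.ker_mk']
    exact h.nc
  · rw [St_qdual]
    rintro _ ⟨a, ha, rfl⟩ _ ⟨b, hb, rfl⟩
    exact mk_comm.1 ((h.toNy.stab le_rfl hJ hv).2 a ha b hb)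
  · rw [hi, index_map_eq _ hs (by rw [QuotientGroup.ker_mk']; exact commutator_le_self N)]
    exact h.nf _ (h.toNy.stab le_rfl hJ hv).1
  · rw [hi, hi]
    exact h.nd _ _ (h.toNy.stab le_rfl hJ hv).1 (h.toNy.stab le_rfl hJ hw).1

/-- A subgroup `T` with `T ⊓ E ≰ M` contains an element of `E` acting fixed-point-freely on `M`.
Proof: `|T ⊓ E : T ⊓ M|` has a prime divisor `t`; a Sylow `t`-subgroup of `T ⊓ E` is not in `M`
(`prime_dvd_index_iff`, as in `exists_x`), giving a `t`-element `e ∈ T ⊓ E \ M`; `e ∉ D` (`ED`), so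
`t ∣ |N : D|`, `t ∤ |M|` (`co`), and `cfpf` applies to every power `e^j ≠ 1` (it is not in `M`). -/
theorem exe {T : Subgroup G} (ne : ¬ T ⊓ ⁅(⊤ : Subgroup G), N⁆ ≤ ⁅N, N⁆) :
    ∃ e ∈ T, e ≠ 1 ∧ ∀ u ∈ zpowers e, u ≠ 1 → ∀ m ∈ ⁅N, N⁆, u * m = m * u → m = 1 := by
  obtain ⟨t, ht, hd⟩ := Nat.exists_prime_and_dvd (mt relIndex_eq_one.1 ne)
  have := Fact.mk ht
  obtain ⟨x, h1, h2⟩ := SetLike.not_le_iff_exists.1 (prime_dvd_index_iff.1 hd default)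
  obtain ⟨k, hk⟩ := (default : Sylow t (T ⊓ ⁅(⊤ : Subgroup G), N⁆ : Subgroup G)).2 ⟨x, h1⟩
  have e1 : (x : G) ^ t ^ k = 1 := congrArg (fun y => (y.1 : G)) hk
  have e2 : (x : G) ∉ ⁅N, N⁆ := h2
  have e3 : t ∣ (CC N).relIndex N := by_contra fun c => e2 (h.toNy.ED x.2.2
    (mem_of_pows (((Nat.Prime.coprime_iff_not_dvd ht).2 c).pow_left k) (e1 ▸ one_mem _)
      (pow_relIndex_mem _ (EN x.2.2))))
  have co := (h.co.coprime_dvd_left e3).pow_left k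
  have pm : ∀ m ∈ ⁅N, N⁆, m ^ Nat.card (⁅N, N⁆ : Subgroup G) = 1 := fun m hm =>
    congrArg Subtype.val (pow_card_eq_one' (x := (⟨m, hm⟩ : (⁅N, N⁆ : Subgroup G))))
  refine ⟨x, x.2.1, fun c => e2 (c ▸ one_mem _), fun u hu u1 m hm c => ?_⟩
  have uE : u ∈ ⁅(⊤ : Subgroup G), N⁆ := zpowers_le.2 x.2.2 hu
  have ut : u ^ t ^ k = 1 := by
    obtain ⟨j, rfl⟩ := hu
    rw [← zpow_natCast, ← zpow_mul, mul_comm, zpow_mul, zpow_natCast, e1, one_zpow]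
  exact h.toNy.cfpf (EN uE) (fun c => u1 (mem_of_pows (M := ⊥) co ut (pm u (h.toNy.ED uE c)))) hm ut
    (pm m hm) co c

/-- `Solv.isNilpotent_of_fpf_subgroup` (`Solv/FpfThompson`) with `exe` for `T = ⊤` -/
theorem nil : Group.IsNilpotent (⁅N, N⁆ : Subgroup G) := by
  obtain ⟨e, -, e1, he⟩ := h.exe (T := ⊤) (by rw [top_inf_eq]; exact h.nc)
  exact Solv.isNilpotent_of_fpf_subgroup _ (zpowers e) le_normalizer_of_normal (zpowers_ne_bot.2 e1)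
    fun u hu u1 => eq_bot_iff.2 fun m hm =>
      he u hu u1 m hm.1 (mem_centralizer_singleton_iff.1 hm.2).symm

/-- Proof. `Act.fix`: with `φ = qdual ..`, `T = inertia M θ ≥ M`, if `T.map π ⊓ A ≤ ker φ` then
`T ≤ St v` for some `v ≠ 1` (`one_lt_dual`), so `|G : St v|`, which is `DD` (`Ny.stab`), divides
`|G:T|`, and `|G:T| θ(1)` divides `χ(1)` for `χ` over `θ` (`exists_ov`, `Ov.dd`); `nd` forces `θ(1) = 1`.
So some `z ∈ T ⊓ N` has `π z ∉ ker φ`, and `Act.ker` shows that `z` fixes no `v ≠ 1`. -/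
theorem exz {θ : IrrCharacter (⁅N, N⁆ : Subgroup G)} (ne : charDegree θ.1 ≠ 1) :
    ∃ z ∈ N, z ∈ inertia ⁅N, N⁆ θ.1 ∧
      ∀ μ : (⁅N, N⁆ : Subgroup G) →* ℂˣ, z ∈ St (dual ⁅N, N⁆) μ → μ = 1 := by
  obtain ⟨n, -, hn⟩ := exists_ne_of_deg ne
  have M1 : (⁅N, N⁆ : Subgroup G) ≠ ⊥ := fun c => hn (congrArg θ.1 (Subtype.ext (c.le n.2)))
  have := Finite.one_lt_card_iff_nontrivial.1 (one_lt_dual M1)
  by_cases hT : (inertia ⁅N, N⁆ θ.1).map (QuotientGroup.mk' ⁅N, N⁆) ⊓ N.map (QuotientGroup.mk' ⁅N, N⁆) ≤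
      (qdual ⁅N, N⁆ ⁅N, N⁆ (self_le_St _)).ker
  · obtain ⟨v, v1, hv⟩ := h.act.fix hT
    obtain ⟨J, hJ⟩ := h.compl
    obtain ⟨χ, o⟩ := exists_ov θ
    have h1 : (St (dual ⁅N, N⁆) v).index ∣ (inertia ⁅N, N⁆ θ.1).index :=
      index_dvd_of_le fun t ht => hv (mem_map_of_mem _ ht)
    have h2 := h.nd _ _ (h.toNy.stab le_rfl hJ v1).1 (o.dd n.2 n.2 fun c => hn ((mem_kC n.2).1 c))
      ((h1.mul_right _).trans o.dvd)
    have h3 := (o.dvd.trans h2.symm.dvd).trans (h1.trans (mul_one _).symm.dvd)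
    exact absurd (Nat.dvd_one.1 (Nat.dvd_of_mul_dvd_mul_left
      (Nat.pos_of_ne_zero index_ne_zero_of_finite) h3)) ne
  · obtain ⟨_, ⟨⟨t, ht, e⟩, z, hz, rfl⟩, nk⟩ := SetLike.not_le_iff_exists.1 hT
    refine ⟨z, hz, ?_, fun μ hμ => by_contra fun c => nk (h.act.ker c ⟨hμ, mem_map_of_mem _ hz⟩)⟩
    simpa using mul_mem ht (le_inertia _ θ.2.isClassFunction (QuotientGroup.eq.1 e))

end Cfsg.Agent.NDA.B2
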