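import Cfsg.Agent.NDA.B2b

/-! S4780 (captain helper13, filled by helper12). The coprime case: `M = N'` is abelian, one degree. -/

set_option autoImplicit false

namespace Cfsg.Agent.NDA.B2

open Subgroup Cfsg.Agent.Char Cfsg.Agent.Palfy
open scoped commutatorElement

variable {G : Type*} [Group G] [Finite G] [Group.IsSolvable G] {N : Subgroup G} [N.Normal] {d : ℕ}
  (h : B2 N)
include h

/-- The class two case. Proof. `M = N'`, `M' ≠ ⊥` central in `M`. (1) For `μ ≠ 1` on `M'`, `rad_le` with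
`X = M`, `Y = M'`, `C = {z ∈ N | z ∈ St μ ∧ z fixes no nontrivial linear character of M}` (`fpf_of_dual`,
`⁅c,c'⁆ ∈ M`, `exz`, `Ly.inertia_le`; `θ` is nonlinear by `comm_le_kC`, `Ly.ker`). (2) Take `w ∈ M \ M'`;
`onto_of_rad` (`Z = ⊥`): `y ↦ ⁅w,y⁆` is a homomorphism from `M` onto `M'` whose kernel properly contains
`M'`, so `|M'|` is a proper divisor of `|M : M'|`. (3) `Act.count` for `ψ = qdual M' M _` (`cent_le_St`),
`card_dual'`, `card_dual`: `k` is `St_comm_comm` (`E = K = M`, `comm_mem_of_St`; every character of `M'`...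
careful: `z ∈ N` with `⁅z,m⁆ ∈ M'` for all `m ∈ M` centralises `M'`: `⁅t u, t' v⁆ = ⁅u,v⁆` for central
`t t'`, or `three_subgroups_mod`), `sr` is `exe` for `T = St u` and `eq_one_of_fpf`. -/
theorem two (c : ⁅⁅⁅N, N⁆, ⁅N, N⁆⁆, ⁅N, N⁆⁆ = ⊥) : ⁅⁅N, N⁆, ⁅N, N⁆⁆ = ⊥ := by
  by_contra ne
  have lM : ⁅⁅N, N⁆, ⁅N, N⁆⁆ ≤ ⁅N, N⁆ := commutator_le_self _
  have neM : ⁅N, N⁆ ≠ ⊥ := fun e => ne (eq_bot_iff.2 (lM.trans e.le))
  have cz : ∀ t ∈ ⁅⁅N, N⁆, ⁅N, N⁆⁆, ∀ m ∈ ⁅N, N⁆, t * m = m * t := fun t ht m hm =>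
    commutatorElement_eq_one_iff_mul_comm.1 (mem_bot.1 (c ▸ commutator_mem_commutator ht hm))
  have cen : ⁅N, N⁆ ≤ centralizer (⁅⁅N, N⁆, ⁅N, N⁆⁆ : Subgroup G) := fun m hm t ht => cz t ht m hm
  have hP := fun μ : (⁅⁅N, N⁆, ⁅N, N⁆⁆ : Subgroup G) →* ℂˣ => cen.trans (cent_le_St _ μ)
  have rad : ∀ μ : (⁅⁅N, N⁆, ⁅N, N⁆⁆ : Subgroup G) →* ℂˣ, μ ≠ 1 → ∀ w ∈ ⁅N, N⁆,
      (∀ y ∈ ⁅N, N⁆, ⁅w, y⁆ ∈ kS μ) → w ∈ ⁅⁅N, N⁆, ⁅N, N⁆⁆ := fun μ hμ w hw hy => by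
    refine rad_le lM le_rfl μ (hP μ) {z | z ∈ N ∧ z ∈ St (dual _) μ ∧
      ∀ ν : (⁅N, N⁆ : Subgroup G) →* ℂˣ, z ∈ St (dual ⁅N, N⁆) ν → ν = 1} (fun z hz => hz.2.1)
      (fun z hz => fpf_of_dual lM le_rfl fun ν _ e => hz.2.2 ν e) (fun z hz z' hz' v _ hv => ?_)
      (fun θ hθ => ?_) hw hy
    · rw [← commutatorElement_inv]
      exact inv_mem (hv _ (commutator_mem_commutator hz.1 hz'.1))
    · have n1 : charDegree θ.1 ≠ 1 := fun e => hμ (le_kS_iff.1 fun y hy =>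
        (hθ.ker lM hy).1 ((comm_le_kC θ).2 e hy))
      obtain ⟨z, h1, h2, h3⟩ := h.exz n1
      exact ⟨z, ⟨h1, hθ.inertia_le lM h2, h3⟩, h2⟩
  have nle : ¬ ⁅N, N⁆ ≤ ⁅⁅N, N⁆, ⁅N, N⁆⁆ := fun l =>
    neM (Solv.eq_bot_of_le_commutator_of_isNilpotent h.nil le_rfl le_rfl l)
  obtain ⟨w, hw, nw⟩ := SetLike.not_le_iff_exists.1 nle
  have onto : ∀ t ∈ ⁅⁅N, N⁆, ⁅N, N⁆⁆, ∃ y ∈ ⁅N, N⁆, ⁅w, y⁆ * t⁻¹ ∈ (⊥ : Subgroup G) := fun t ht =>
    onto_of_rad bot_le ((commutator_mono le_rfl lM).trans c.le) c.le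
      (fun y hy => commutator_mem_commutator hw hy)
      (fun ν _ hν => by_contra fun n => nw (rad ν n w hw hν)) ht
  let f : (⁅N, N⁆ : Subgroup G) →* (⁅⁅N, N⁆, ⁅N, N⁆⁆ : Subgroup G) := MonoidHom.mk'
    (fun y => ⟨⁅w, y.1⁆, commutator_mem_commutator hw y.2⟩) fun a b => Subtype.ext (by
      have e := cz _ (commutator_mem_commutator hw b.2) _ a.2
      change ⁅w, a.1 * b.1⁆ = ⁅w, a.1⁆ * ⁅w, b.1⁆
      calc ⁅w, a.1 * b.1⁆ = ⁅w, a.1⁆ * (a.1 * ⁅w, b.1⁆) * a.1⁻¹ := by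
            simp [commutatorElement_def, mul_assoc]
        _ = _ := by rw [← e]; simp [mul_assoc])
  have fs : Function.Surjective f := fun t => by
    obtain ⟨y, hy, e⟩ := onto t t.2
    exact ⟨⟨y, hy⟩, Subtype.ext (mul_inv_eq_one.1 (mem_bot.1 e))⟩
  have ki : f.ker.index = Nat.card (⁅⁅N, N⁆, ⁅N, N⁆⁆ : Subgroup G) := by
    rw [index_ker, MonoidHom.range_eq_top.2 fs, card_top]
  have kl : (⁅⁅N, N⁆, ⁅N, N⁆⁆ : Subgroup G).subgroupOf ⁅N, N⁆ ≤ f.ker := fun y hy =>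
    Subtype.ext (commutatorElement_eq_one_iff_mul_comm.2 (cz _ hy _ hw).symm)
  have cU : Nat.card ((⁅⁅N, N⁆, ⁅N, N⁆⁆ : Subgroup G) →* ℂˣ) = f.ker.index := by
    rw [ki]
    exact card_dual fun a b => Subtype.ext (cz _ a.2 _ (lM b.2))
  have := Finite.one_lt_card_iff_nontrivial.1 (one_lt_dual neM)
  have := Finite.one_lt_card_iff_nontrivial.1 (one_lt_dual ne)
  have s := QuotientGroup.mk'_surjective ⁅N, N⁆
  have e := h.act.count (U := (⁅⁅N, N⁆, ⁅N, N⁆⁆ : Subgroup G) →* ℂˣ) (qdual _ _ hP) (by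
    rintro _ ⟨h1, z, -, rfl⟩
    have h2 : ∀ μ : (⁅⁅N, N⁆, ⁅N, N⁆⁆ : Subgroup G) →* ℂˣ, z ∈ St (dual _) μ := fun μ =>
      St_comm_comm le_rfl (hP μ) fun a ha =>
        comm_mem_of_St (fun ν => DFunLike.congr_fun (MonoidHom.mem_ker.1 h1) ν) ha
    have h3 : qdual _ _ hP (QuotientGroup.mk' ⁅N, N⁆ z) = 1 := MulEquiv.ext h2
    exact h3) (fun u hu => eq_bot_iff.2 (by
    rw [← map_top_of_surjective _ s, ← map_commutator]
    rintro _ ⟨h1, z, hz, rfl⟩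
    refine (QuotientGroup.eq_one_iff z).2 (by_contra fun n => ?_)
    obtain ⟨e, he, e1, fe⟩ := h.exe (T := St (dual _) u) fun l => n (l ⟨h1, hz⟩)
    exact hu (eq_one_of_fpf (fun m hm => fe e (mem_zpowers e) e1 m (lM hm)) he)))
    (by rw [cU, card_dual']; exact index_dvd_of_le kl)
  rw [cU, card_dual'] at e
  have r := relIndex_mul_index kl
  rw [e] at r
  have r1 := relIndex_eq_one.1 ((Nat.mul_eq_right index_ne_zero_of_finite).1 r)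
  exact nw (r1 (show (⟨w, hw⟩ : (⁅N, N⁆ : Subgroup G)) ∈ f.ker from
    Subtype.ext (commutatorElement_self w)))

/-- Proof. `V = ⁅M', M⁆`; `two` for `B2.map (mk' V)` gives `M' ≤ V`, `nil` and
`Solv.eq_bot_of_le_commutator_of_isNilpotent` give `M' = ⊥`. For `χ` with `M ≰ charKer χ` take `θ` from
`exists_un M χ`: it is linear, `θ = lin μ` (`under_ly`/`exists_hom_of_isCharacter_one`), `μ ≠ 1`,
`|G : St μ| ∣ χ(1)`, so equal by `stab`, `nd`; `Act.idx`. -/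
theorem main : ⁅⁅N, N⁆, ⁅N, N⁆⁆ = ⊥ ∧ ∀ d d', DD N d → DD N d' → d = d' := by
  have lM : ⁅⁅N, N⁆, ⁅N, N⁆⁆ ≤ ⁅N, N⁆ := commutator_le_self _
  have ab : ⁅⁅N, N⁆, ⁅N, N⁆⁆ = ⊥ := by
    have s := QuotientGroup.mk'_surjective ⁅⁅⁅N, N⁆, ⁅N, N⁆⁆, ⁅N, N⁆⁆
    have : (N.map (QuotientGroup.mk' ⁅⁅⁅N, N⁆, ⁅N, N⁆⁆, ⁅N, N⁆⁆)).Normal := Normal.map inferInstance _ s
    have e := (B2.map s ((QuotientGroup.ker_mk' _).le.trans
      ((commutator_le_right _ _).trans le_CC)) h).two (by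
        simp only [← map_commutator]
        exact (Subgroup.map_eq_bot_iff _).2 (QuotientGroup.ker_mk' _).ge)
    simp only [← map_commutator] at e
    exact Solv.eq_bot_of_le_commutator_of_isNilpotent h.nil lM le_rfl
      (((Subgroup.map_eq_bot_iff _).1 e).trans (QuotientGroup.ker_mk' _).le)
  obtain ⟨J, hJ⟩ := h.compl
  have key : ∀ d, DD N d → ∃ μ : (⁅N, N⁆ : Subgroup G) →* ℂˣ, μ ≠ 1 ∧
      (St (dual ⁅N, N⁆) μ).index = d := by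
    rintro _ ⟨χ, hχ, rfl⟩
    obtain ⟨θ, o⟩ := exists_un ⁅N, N⁆ χ
    have d1 : charDegree θ.1 = 1 := (comm_le_kC θ).1 (ab.le.trans bot_le)
    obtain ⟨μ, hμ⟩ := θ.2.isCharacter.exists_linear ((charDegree_eq_one_iff θ.2.isCharacter).1 d1)
    obtain rfl : θ = lin μ := Subtype.ext hμ
    have n1 : μ ≠ 1 := fun e => hχ ((o.ker _ inferInstance le_rfl).2 (by
      rw [kC_lin]; exact le_kS_iff.2 e))
    exact ⟨μ, n1, h.nd _ _ (h.toNy.stab le_rfl hJ n1).1 ⟨χ, hχ, rfl⟩ o.St_dvd⟩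
  refine ⟨ab, fun d d' hd hd' => ?_⟩
  obtain ⟨μ, n1, rfl⟩ := key d hd
  obtain ⟨ν, n2, rfl⟩ := key d' hd'
  have s := QuotientGroup.mk'_surjective ⁅N, N⁆
  have e := h.act.idx n1 n2
  rwa [St_qdual, St_qdual, index_map_eq _ s ((QuotientGroup.ker_mk' _).le.trans (self_le_St _ _)),
    index_map_eq _ s ((QuotientGroup.ker_mk' _).le.trans (self_le_St _ _))] at e

end Cfsg.Agent.NDA.B2
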